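import Groth.Agent.NilpLiftLib.Basic
import Groth.Agent.DCohLib.OpenD
import Groth.Agent.DCohLib.GlueTwo
import Groth.Agent.DCohLib.SPerf
import Groth.Agent.DCohLib.Restrict
import Groth.Agent.DCohLib.ProjFlf
import Groth.Agent.ThickAff.Nil
import Groth.Agent.CohBase.Affine
import Groth.Agent.AmpleFamLib.Descend

/-!
# Lifting locally free modules along a nilimmersion which is an isomorphism off a union of affine pieces
-/

set_option autoImplicit false
set_option backward.isDefEq.respectTransparency false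
set_option linter.style.haveILetI false
set_option maxHeartbeats 1000000

universe u

open CategoryTheory CategoryTheory.Limits AlgebraicGeometry TopologicalSpace Opposite

noncomputable section

namespace Groth.Agent.BirNilLib

variable {X X' : Scheme.{u}} (f : X' ⟶ X) (U : X.Opens)

/-- The two composites of direct images. -/
def sqIso : Scheme.Modules.pushforward (f ∣_ U) ⋙ Scheme.Modules.pushforward U.ι ≅
    Scheme.Modules.pushforward (f ⁻¹ᵁ U).ι ⋙ Scheme.Modules.pushforward f :=
  Scheme.Modules.pushforwardComp _ _ ≪≫ Scheme.Modules.pushforwardCongr (morphismRestrict_ι f U) ≪≫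
    (Scheme.Modules.pushforwardComp _ _).symm

/-- The comparison of inverse images. -/
def sigma : Scheme.Modules.restrictFunctor U.ι ⋙ Scheme.Modules.pullback (f ∣_ U) ≅
    Scheme.Modules.pullback f ⋙ Scheme.Modules.restrictFunctor (f ⁻¹ᵁ U).ι :=
  (conjugateIsoEquiv ((Scheme.Modules.pullbackPushforwardAdjunction f).comp (Scheme.Modules.restrictAdjunction (f ⁻¹ᵁ U).ι))
    ((Scheme.Modules.restrictAdjunction U.ι).comp (Scheme.Modules.pullbackPushforwardAdjunction (f ∣_ U)))).symm
    (sqIso f U).symm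

/-- The comparison of direct image and restriction. -/
def rho (E : X'.Modules) : ((Scheme.Modules.pushforward f).obj E).restrict U.ι ⟶
    (Scheme.Modules.pushforward (f ∣_ U)).obj (E.restrict (f ⁻¹ᵁ U).ι) :=
  ((Scheme.Modules.restrictAdjunction U.ι).homEquiv _ _).symm
    ((Scheme.Modules.pushforward f).map ((Scheme.Modules.restrictAdjunction (f ⁻¹ᵁ U).ι).unit.app E) ≫
      (sqIso f U).inv.app _)

instance isIso_rho (E : X'.Modules) : IsIso (rho f U E) := by
  have hI : ∀ {a b : (X'.Opens)ᵒᵖ} (m : a ⟶ b), a = b → IsIso (E.presheaf.map m) := by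
    rintro a b m rfl
    rw [Subsingleton.elim m (𝟙 a), CategoryTheory.Functor.map_id]
    infer_instance
  refine Scheme.Modules.Hom.isIso_iff_isIso_app.2 fun W => ?_
  have hm : ∀ {M N : X.Modules} (φ : M ⟶ N),
      ((Scheme.Modules.restrictFunctor U.ι).map φ).app W = φ.app (U.ι ''ᵁ W) := fun _ => rfl
  simp only [rho, sqIso, Adjunction.homEquiv_counit, Iso.trans_inv, Iso.symm_inv, NatTrans.comp_app,
    Functor.map_comp, Scheme.Modules.Hom.comp_app, hm,
    Scheme.Modules.pushforward_map_app, Scheme.Modules.restrictAdjunction_unit_app_app,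
    Scheme.Modules.pushforwardComp_hom_app_app, Scheme.Modules.pushforwardComp_inv_app_app,
    Scheme.Modules.pushforwardCongr_inv_app_app, Scheme.Modules.restrictAdjunction_counit_app_app,
    Category.id_comp, Category.comp_id]
  have hr : ∀ {a b c d : (X'.Opens)ᵒᵖ} (m : a ⟶ b) (n : b ⟶ c) (l : c ⟶ d), a = d →
      IsIso (E.presheaf.map m ≫ 𝟙 _ ≫ E.presheaf.map n ≫ 𝟙 _ ≫ E.presheaf.map l) := by
    intro a b c d m n l e
    rw [Category.id_comp, Category.id_comp, ← Functor.map_comp, ← Functor.map_comp]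
    exact hI _ e
  exact hr _ _ _ (congrArg op (image_morphismRestrict_preimage f U W).symm)

theorem adj_rho {M : X.Modules} {E : X'.Modules} (q : M ⟶ (Scheme.Modules.pushforward f).obj E) :
    ((Scheme.Modules.pullbackPushforwardAdjunction (f ∣_ U)).homEquiv (M.restrict U.ι) (E.restrict (f ⁻¹ᵁ U).ι)).symm
        ((Scheme.Modules.restrictFunctor U.ι).map q ≫ rho f U E) =
      (sigma f U).hom.app M ≫ (Scheme.Modules.restrictFunctor (f ⁻¹ᵁ U).ι).map
        (((Scheme.Modules.pullbackPushforwardAdjunction f).homEquiv M E).symm q) := by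
  let aR := Scheme.Modules.restrictAdjunction U.ι
  let aR' := Scheme.Modules.restrictAdjunction (f ⁻¹ᵁ U).ι
  let ag := Scheme.Modules.pullbackPushforwardAdjunction (f ∣_ U)
  let af := Scheme.Modules.pullbackPushforwardAdjunction f
  have h2 : (af.comp aR').homEquiv M _ ((Scheme.Modules.restrictFunctor (f ⁻¹ᵁ U).ι).map ((af.homEquiv M E).symm q)) =
      q ≫ (Scheme.Modules.pushforward f).map (aR'.unit.app E) := by
    rw [Adjunction.comp_homEquiv]
    show af.homEquiv _ _ (aR'.homEquiv _ _ _) = _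
    rw [Adjunction.homEquiv_unit aR', aR'.unit_naturality, af.homEquiv_naturality_right, Equiv.apply_symm_apply]
  refine ((aR.comp ag).homEquiv M _).injective ?_
  show (aR.comp ag).homEquiv M _ _ = (aR.comp ag).homEquiv M _ (((conjugateEquiv (af.comp aR') (aR.comp ag)).symm (sqIso f U).inv).app M ≫ _)
  rw [DCohLib.homEquiv_mate', h2, Adjunction.comp_homEquiv]
  show aR.homEquiv _ _ (ag.homEquiv _ _ _) = _
  rw [Equiv.apply_symm_apply, aR.homEquiv_naturality_left, rho, Equiv.apply_symm_apply, Category.assoc]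

/-- The adjoint is an isomorphism over `U` exactly if the restricted adjoint is one. -/
theorem isIso_adj_iff {M : X.Modules} {E : X'.Modules} (q : M ⟶ (Scheme.Modules.pushforward f).obj E) :
    IsIso ((Scheme.Modules.restrictFunctor (f ⁻¹ᵁ U).ι).map
        (((Scheme.Modules.pullbackPushforwardAdjunction f).homEquiv M E).symm q)) ↔
      IsIso (((Scheme.Modules.pullbackPushforwardAdjunction (f ∣_ U)).homEquiv (M.restrict U.ι)
        (E.restrict (f ⁻¹ᵁ U).ι)).symm ((Scheme.Modules.restrictFunctor U.ι).map q ≫ rho f U E)) := by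
  rw [adj_rho]
  exact (isIso_comp_left_iff ((sigma f U).hom.app M) _).symm

theorem isEquivalence_push {Y Z : Scheme.{u}} (g : Y ⟶ Z) [IsIso g] :
    (Scheme.Modules.pushforward g).IsEquivalence :=
  (CategoryTheory.Equivalence.mk (Scheme.Modules.pushforward g) (Scheme.Modules.pushforward (inv g))
    ((Scheme.Modules.pushforwardId Y).symm ≪≫
      (Scheme.Modules.pushforwardCongr (IsIso.hom_inv_id g)).symm ≪≫
      (Scheme.Modules.pushforwardComp g (inv g)).symm)
    ((Scheme.Modules.pushforwardComp (inv g) g) ≪≫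
      Scheme.Modules.pushforwardCongr (IsIso.inv_hom_id g) ≪≫
      Scheme.Modules.pushforwardId Z)).isEquivalence_functor

/-- Over an isomorphism, adjoints of isomorphisms are isomorphisms, and conversely. -/
theorem isIso_symm_iff {Y Z : Scheme.{u}} (g : Y ⟶ Z) [IsIso g] {M : Z.Modules} {E : Y.Modules}
    (r : M ⟶ (Scheme.Modules.pushforward g).obj E) :
    IsIso (((Scheme.Modules.pullbackPushforwardAdjunction g).homEquiv M E).symm r) ↔ IsIso r := by
  haveI := isEquivalence_push g
  haveI : (Scheme.Modules.pullback g).IsEquivalence :=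
    (Scheme.Modules.pullbackPushforwardAdjunction g).isEquivalence_left_of_isEquivalence_right
  rw [Adjunction.homEquiv_counit, isIso_comp_right_iff]
  exact ⟨fun h => isIso_of_reflects_iso r (Scheme.Modules.pullback g), fun h => inferInstance⟩

theorem isIso_restrict_unit_pullback {Y Z : Scheme.{u}} (g : Y ⟶ Z) (D : Z.Opens) [IsIso (g ∣_ D)] (B : Z.Modules) :
    IsIso ((Scheme.Modules.restrictFunctor D.ι).map ((Scheme.Modules.pullbackPushforwardAdjunction g).unit.app B)) := by
  have h := (isIso_adj_iff g D ((Scheme.Modules.pullbackPushforwardAdjunction g).unit.app B)).1 (by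
    erw [Adjunction.homEquiv_counit, Adjunction.left_triangle_components, CategoryTheory.Functor.map_id]
    infer_instance)
  rw [isIso_symm_iff] at h
  exact (isIso_comp_right_iff _ (rho g D _)).1 h

/-- A direct image from an open is an isomorphism over `D` if it is one over the trace of `D`. -/
theorem isIso_restrict_push (O D : X.Opens) {A B : (O : Scheme.{u}).Modules} (φ : A ⟶ B)
    (h : IsIso ((Scheme.Modules.restrictFunctor (O.ι ⁻¹ᵁ D).ι).map φ)) :
    IsIso ((Scheme.Modules.restrictFunctor D.ι).map ((Scheme.Modules.pushforward O.ι).map φ)) := by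
  refine Scheme.Modules.Hom.isIso_iff_isIso_app.2 fun W => ?_
  show IsIso (φ.app (O.ι ⁻¹ᵁ (D.ι ''ᵁ W)))
  have hle : O.ι ⁻¹ᵁ (D.ι ''ᵁ W) ≤ O.ι ⁻¹ᵁ D :=
    O.ι.preimage_mono ((D.ι.image_le_opensRange W).trans D.opensRange_ι.le)
  have e : (O.ι ⁻¹ᵁ D).ι ''ᵁ ((O.ι ⁻¹ᵁ D).ι ⁻¹ᵁ (O.ι ⁻¹ᵁ (D.ι ''ᵁ W))) = O.ι ⁻¹ᵁ (D.ι ''ᵁ W) := by
    rw [Scheme.Hom.image_preimage_eq_opensRange_inf, Scheme.Opens.opensRange_ι]
    exact inf_eq_right.2 hle
  have h' : IsIso (φ.app ((O.ι ⁻¹ᵁ D).ι ''ᵁ ((O.ι ⁻¹ᵁ D).ι ⁻¹ᵁ (O.ι ⁻¹ᵁ (D.ι ''ᵁ W))))) :=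
    Scheme.Modules.Hom.isIso_iff_isIso_app.1 h ((O.ι ⁻¹ᵁ D).ι ⁻¹ᵁ (O.ι ⁻¹ᵁ (D.ι ''ᵁ W)))
  rwa [e] at h'

/-- The lifting property over an affine piece. -/
theorem exists_lift_affine [IsNoetherian X] [IsClosedImmersion f] [Surjective f] (O : X.Opens) (hO : IsAffineOpen O)
    (E : (f ⁻¹ᵁ O : Scheme.{u}).Modules) (hE : FlatMod.IsFinLocFree E) :
    ∃ B : (O : Scheme.{u}).Modules, FlatMod.IsFinLocFree B ∧
      Nonempty ((Scheme.Modules.pullback (f ∣_ O)).obj B ≅ E) := by
  haveI : IsAffine (O : Scheme.{u}) := hO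
  haveI : IsClosedImmersion (f ∣_ O) := IsZariskiLocalAtTarget.restrict ‹_› O
  haveI : Surjective (f ∣_ O) := IsZariskiLocalAtTarget.restrict ‹_› O
  haveI : IsNoetherian (O : Scheme.{u}) := {}
  let g := f ∣_ O
  let V := (O : Scheme.{u})
  haveI : IsNoetherianRing Γ(V, ⊤) := IsLocallyNoetherian.component_noetherian ⟨⊤, isAffineOpen_top V⟩
  obtain ⟨n, hn⟩ := ThickAff.exists_pow_eq_bot g ‹Surjective (f ∣_ O)›
    (IsNoetherian.noetherian (RingHom.ker g.appTop.hom)) le_rfl
  have hpow : g.ker ^ (n + 1) = ⊥ := by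
    refine Scheme.IdealSheafData.ext_of_isAffine ?_
    rw [Scheme.IdealSheafData.ideal_pow, Scheme.IdealSheafData.ideal_bot]
    show g.ker.ideal ⟨⊤, isAffineOpen_top V⟩ ^ (n + 1) = ⊥
    rw [← ThickAff.ker_appTop_eq_ideal g, pow_succ, hn, Ideal.bot_mul]
  obtain ⟨B, hB, ⟨φ⟩⟩ := NilpLiftLib.exists_lift (P := V) (fun {Y} κ hκ M hM => by
      haveI := hκ
      haveI := hM
      haveI : IsAffine Y := isAffine_of_isAffineHom κ
      exact CohBase.subsingleton_HH M 2 (CohBase.affine_vanishing M (isAffineOpen_top Y) 1))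
    g.ker n hpow ((Scheme.Modules.pullback (inv g.toImage)).obj E) (PullbackMod.isFinLocFree_pullback _ _ hE)
  exact ⟨B, hB, ⟨(Scheme.Modules.pullbackCongr g.toImage_imageι.symm).app B ≪≫
    ((Scheme.Modules.pullbackComp g.toImage g.imageι).app B).symm ≪≫
    (Scheme.Modules.pullback g.toImage).mapIso φ ≪≫ (Scheme.Modules.pullbackComp _ _).app E ≪≫
    (Scheme.Modules.pullbackCongr (IsIso.hom_inv_id g.toImage)).app E ≪≫ (Scheme.Modules.pullbackId _).app E⟩⟩

variable {f}

section Abstract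

variable {C D : Type*} [Category C] [Category D] {L : C ⥤ D} {R : D ⥤ C}

theorem map_comp_of_square (adj : L ⊣ R) {M' M F : C} {B : D} (p : M' ⟶ M) (s : M' ⟶ R.obj B) (q : M ⟶ F)
    (b : B ⟶ L.obj F) (hw : p ≫ q ≫ adj.unit.app F = s ≫ R.map b) :
    L.map (p ≫ q) = (L.map s ≫ adj.counit.app B) ≫ b := by
  have h := congrArg (fun t => L.map t ≫ adj.counit.app (L.obj F)) hw
  simp only [Functor.map_comp, Category.assoc, adj.left_triangle_components, Category.comp_id] at h
  rw [Functor.map_comp, h, Category.assoc]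
  exact congrArg (fun t => L.map s ≫ t) (adj.counit.naturality b)

theorem isIso_symm_comp (adj : L ⊣ R) {A B : C} {E : D} (u : A ⟶ B) [IsIso u] (φ : L.obj B ≅ E) :
    IsIso ((adj.homEquiv A E).symm (u ≫ adj.homEquiv B E φ.hom)) := by
  rw [adj.homEquiv_naturality_left_symm, Equiv.symm_apply_apply]
  infer_instance

end Abstract

/-- One more piece. -/
theorem exists_step (E : X'.Modules) {M : X.Modules} (q : M ⟶ (Scheme.Modules.pushforward f).obj E)
    (O : X.Opens) (hq : IsIso ((Scheme.Modules.restrictFunctor O.ι).map q))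
    (B : (O : Scheme.{u}).Modules) (φ : (Scheme.Modules.pullback (f ∣_ O)).obj B ≅ E.restrict (f ⁻¹ᵁ O).ι) :
    ∃ (M' : X.Modules) (h : M' ⟶ M),
      (∀ D W : X.Opens, IsIso (f ∣_ W) → D ⊓ O ≤ W → IsIso ((Scheme.Modules.restrictFunctor D.ι).map h)) ∧
      Nonempty (M'.restrict O.ι ≅ B) ∧
      IsIso ((Scheme.Modules.restrictFunctor (f ⁻¹ᵁ O).ι).map
        (((Scheme.Modules.pullbackPushforwardAdjunction f).homEquiv M' E).symm (h ≫ q))) := by
  let R := Scheme.Modules.restrictFunctor O.ι
  let aR := Scheme.Modules.restrictAdjunction O.ι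
  let ag := Scheme.Modules.pullbackPushforwardAdjunction (f ∣_ O)
  let r0 := rho f O E
  let F := (Scheme.Modules.pushforward f).obj E
  let b0 : B ⟶ R.obj F := ag.homEquiv _ _ φ.hom ≫ inv r0
  let a : M ⟶ (Scheme.Modules.pushforward O.ι).obj (R.obj F) := q ≫ aR.unit.app F
  let b := (Scheme.Modules.pushforward O.ι).map b0
  let M' := pullback a b
  haveI : IsIso (R.map a) := by
    haveI : IsIso (R.map (aR.unit.app F)) := by
      haveI : IsIso (R.map (aR.unit.app F) ≫ aR.counit.app (R.obj F)) := by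
        erw [aR.left_triangle_components]; infer_instance
      exact IsIso.of_isIso_comp_right _ (aR.counit.app (R.obj F))
    show IsIso (R.map (q ≫ aR.unit.app F))
    rw [R.map_comp]
    infer_instance
  have hw : pullback.fst a b ≫ a = pullback.snd a b ≫ b := pullback.condition
  haveI : IsIso (R.map (pullback.snd a b)) := by
    have hp := (IsPullback.of_hasPullback a b).map R
    exact hp.flip.isIso_fst_of_isIso
  let u : R.obj M' ⟶ B := R.map (pullback.snd a b) ≫ aR.counit.app B
  haveI : IsIso u := inferInstance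
  refine ⟨M', pullback.fst a b, fun D W hW hD => ?_, ⟨asIso u⟩, ?_⟩
  · haveI : IsIso ((Scheme.Modules.restrictFunctor D.ι).map b) := by
      refine isIso_restrict_push O D b0 ?_
      haveI : IsIso ((f ∣_ O) ∣_ (O.ι ⁻¹ᵁ D)) := by
        have hle : O.ι ''ᵁ (O.ι ⁻¹ᵁ D) ≤ W := by
          rw [Scheme.Hom.image_preimage_eq_opensRange_inf, Scheme.Opens.opensRange_ι, inf_comm]
          exact hD
        have h1 : IsIso (f ∣_ O.ι ''ᵁ (O.ι ⁻¹ᵁ D)) :=
          AmpleFamLib.morphismRestrict_of_le' (P := MorphismProperty.isomorphisms Scheme) f hle hW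
        exact ((MorphismProperty.isomorphisms Scheme).arrow_mk_iso_iff (morphismRestrictRestrict f O (O.ι ⁻¹ᵁ D))).2 h1
      show IsIso ((Scheme.Modules.restrictFunctor (O.ι ⁻¹ᵁ D).ι).map (ag.homEquiv _ _ φ.hom ≫ inv r0))
      haveI := isIso_restrict_unit_pullback (f ∣_ O) (O.ι ⁻¹ᵁ D) B
      rw [Functor.map_comp, Adjunction.homEquiv_unit, Functor.map_comp]
      infer_instance
    exact ((IsPullback.of_hasPullback a b).map (Scheme.Modules.restrictFunctor D.ι)).isIso_fst_of_isIso
  · rw [isIso_adj_iff]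
    have key : R.map (pullback.fst a b ≫ q) ≫ r0 = u ≫ ag.homEquiv _ _ φ.hom := by
      rw [map_comp_of_square aR (pullback.fst a b) (pullback.snd a b) q b0 hw, Category.assoc]
      exact congrArg (fun t => u ≫ t) (by simp only [b0, Category.assoc, IsIso.inv_hom_id]; exact Category.comp_id _)
    show IsIso ((ag.homEquiv _ _).symm (R.map (pullback.fst a b ≫ q) ≫ r0))
    rw [key]
    exact isIso_symm_comp ag u φ

variable (f) in
/-- Finite locally free modules lift when the target is covered by an open over which `f` is an isomorphism and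
affine opens meeting pairwise inside it. -/
theorem exists_lift_cover [IsNoetherian X] [IsClosedImmersion f] [Surjective f] (W : X.Opens) (hW : IsIso (f ∣_ W))
    {n : ℕ} (O : Fin n → X.Opens) (hO : ∀ j, IsAffineOpen (O j)) (hd : ∀ i j, i ≠ j → O i ⊓ O j ≤ W)
    (hc : ∀ x : X, x ∈ W ∨ ∃ j, x ∈ O j) (E : X'.Modules) (hE : FlatMod.IsFinLocFree E) :
    ∃ M : X.Modules, FlatMod.IsFinLocFree M ∧ Nonempty ((Scheme.Modules.pullback f).obj M ≅ E) := by
  classical
  let af := Scheme.Modules.pullbackPushforwardAdjunction f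
  suffices H : ∀ s : Finset (Fin n), ∃ (M : X.Modules) (q : M ⟶ (Scheme.Modules.pushforward f).obj E),
      IsIso ((Scheme.Modules.restrictFunctor W.ι).map q) ∧
      (∀ j, j ∉ s → IsIso ((Scheme.Modules.restrictFunctor (O j).ι).map q)) ∧
      ∀ j ∈ s, FlatMod.IsFinLocFree (M.restrict (O j).ι) ∧
        IsIso ((Scheme.Modules.restrictFunctor (f ⁻¹ᵁ O j).ι).map ((af.homEquiv M E).symm q)) by
    obtain ⟨M, q, hqW, -, hs⟩ := H Finset.univ
    haveI := hW
    haveI := hqW
    refine ⟨M, DCohLib.isFinLocFree_of_local fun x => ?_, ⟨@asIso _ _ _ _ ((af.homEquiv M E).symm q)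
      (DCohLib.isIso_of_local _ fun x => ?_)⟩⟩
    · rcases hc x with hx | ⟨j, hx⟩
      · refine ⟨_, W.ι, inferInstance, ⟨x, hx⟩, rfl, ?_⟩
        haveI := isEquivalence_push (f ∣_ W)
        let e : (Scheme.Modules.restrictFunctor W.ι).obj M ≅
            (Scheme.Modules.pushforward (f ∣_ W)).obj (E.restrict (f ⁻¹ᵁ W).ι) :=
          asIso ((Scheme.Modules.restrictFunctor W.ι).map q ≫ rho f W E)
        haveI : IsIso (((Scheme.Modules.pullbackPushforwardAdjunction (f ∣_ W)).homEquiv _ _).symm e.hom) :=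
          (isIso_symm_iff _ e.hom).2 inferInstance
        let e' : (Scheme.Modules.pullback (f ∣_ W)).obj ((Scheme.Modules.restrictFunctor W.ι).obj M) ≅
            E.restrict (f ⁻¹ᵁ W).ι :=
          asIso (((Scheme.Modules.pullbackPushforwardAdjunction (f ∣_ W)).homEquiv _ _).symm e.hom)
        exact DCohLib.isFinLocFree_iso ((Scheme.Modules.pullback (inv (f ∣_ W))).mapIso e'.symm ≪≫
          (Scheme.Modules.pullbackComp _ _).app _ ≪≫ (Scheme.Modules.pullbackCongr (IsIso.inv_hom_id (f ∣_ W))).app _ ≪≫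
            (Scheme.Modules.pullbackId _).app _)
          (PullbackMod.isFinLocFree_pullback _ _ (DCohLib.isFinLocFree_restrict (f ⁻¹ᵁ W).ι hE))
      · exact ⟨_, (O j).ι, inferInstance, ⟨x, hx⟩, rfl, (hs j (Finset.mem_univ j)).1⟩
    · rcases hc (f x) with hx | ⟨j, hx⟩
      · refine ⟨_, (f ⁻¹ᵁ W).ι, inferInstance, ⟨x, hx⟩, rfl, ?_⟩
        rw [isIso_adj_iff, isIso_symm_iff]
        infer_instance
      · exact ⟨_, (f ⁻¹ᵁ O j).ι, inferInstance, ⟨x, hx⟩, rfl, (hs j (Finset.mem_univ j)).2⟩
  intro s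
  induction s using Finset.induction_on with
  | empty =>
    exact ⟨_, 𝟙 _, inferInstance, fun j _ => inferInstance, fun j hj => absurd hj (Finset.notMem_empty j)⟩
  | @insert j s hjs ih =>
    obtain ⟨M, q, hqW, hq, hs⟩ := ih
    obtain ⟨B, hB, ⟨φ⟩⟩ := exists_lift_affine f (O j) (hO j) _ (DCohLib.isFinLocFree_restrict (f ⁻¹ᵁ O j).ι hE)
    obtain ⟨M', h, hh, ⟨e⟩, hψ⟩ := exists_step E q (O j) (hq j hjs) B φ
    have hhW := hh W W hW inf_le_left
    haveI := hqW
    refine ⟨M', h ≫ q, ?_, fun i hi => ?_, fun i hi => ?_⟩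
    · rw [Functor.map_comp]
      infer_instance
    · rw [Finset.mem_insert, not_or] at hi
      haveI := hq i hi.2
      haveI := hh (O i) W hW (hd i j hi.1)
      rw [Functor.map_comp]
      infer_instance
    · rcases eq_or_ne i j with rfl | hij
      · exact ⟨DCohLib.isFinLocFree_iso e.symm hB, hψ⟩
      · have his : i ∈ s := by simpa [hij] using hi
        haveI := hh (O i) W hW (hd i j hij)
        refine ⟨DCohLib.isFinLocFree_iso (asIso ((Scheme.Modules.restrictFunctor (O i).ι).map h)).symm (hs i his).1, ?_⟩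
        haveI := (hs i his).2
        rw [af.homEquiv_naturality_left_symm, Functor.map_comp]
        haveI : IsIso ((Scheme.Modules.restrictFunctor (f ⁻¹ᵁ O i).ι).map ((Scheme.Modules.pullback f).map h)) :=
          (NatIso.isIso_map_iff (sigma f (O i)) h).1
            (inferInstanceAs (IsIso ((Scheme.Modules.pullback (f ∣_ O i)).map
              ((Scheme.Modules.restrictFunctor (O i).ι).map h))))
        infer_instance

end Groth.Agent.BirNilLib
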