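import Groth.Agent.BirNilLib.Basic
import Groth.Agent.AmpleLib.Pullback
import Groth.Agent.NilPushLib.Basic
import Groth.Agent.JetLib.Basic
import Groth.Agent.QCohLib.Push
import Groth.Agent.FlagLib.Step
import Groth.Agent.CurveLib.DegTensor

/-!
# Ample families along nilimmersions
-/

set_option autoImplicit false
set_option backward.isDefEq.respectTransparency false
set_option linter.style.haveILetI false
set_option maxHeartbeats 1000000

universe u

open CategoryTheory CategoryTheory.Limits AlgebraicGeometry TopologicalSpace Opposite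
open Groth.Agent.PullbackMod

noncomputable section

namespace Groth.Agent.BirNilLib

variable {X X' : Scheme.{u}} (f : X' ⟶ X)

theorem isInvertible_of_pullback_surjective [Surjective f] {M : X.Modules} (hM : FlatMod.IsFinLocFree M)
    (h : PicF.IsInvertible ((Scheme.Modules.pullback f).obj M)) : PicF.IsInvertible M := by
  obtain ⟨h1, h2, -⟩ := (PullbackMod.isFinLocFree_iff M).mp hM
  haveI := h1
  haveI := PullbackMod.isQCoh_pullback f M
  have hr := (isFinLocFreeOfRank_iff_freeAt _ (PullbackMod.isFP_pullback f M h2) 1).1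
    (CurveLib.isFinLocFreeOfRank_one h)
  have : ∀ x, FreeAt 1 M x := fun x => by
    obtain ⟨z, rfl⟩ := f.surjective x
    obtain ⟨n, hn⟩ := (isFinLocFree_iff_freeAt M h2).1 hM (f z)
    obtain rfl : n = 1 := freeAt_unique _ (freeAt_pullback M f z hn) (hr z)
    exact hn
  intro x
  obtain ⟨U, hx, ⟨e⟩⟩ := (isFinLocFreeOfRank_iff_freeAt M h2 1).2 this x
  exact ⟨U, hx, ⟨e ≪≫ coproductUniqueIso fun _ : Fin 1 => Coh.structureModule (↑U : Scheme.{u})⟩⟩

/-- Global sections of the inverse image extend. -/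
theorem exists_section [IsNoetherian X] [IsClosedImmersion f] [Surjective f] (W : X.Opens) (hW : IsIso (f ∣_ W))
    {n : ℕ} (O : Fin n → X.Opens) (hO : ∀ j, IsAffineOpen (O j)) (hd : ∀ i j, i ≠ j → O i ⊓ O j ≤ W)
    (hc : ∀ x : X, x ∈ W ∨ ∃ j, x ∈ O j) (N : X.Modules) [Coh.IsQCoh N]
    (σ' : Coh.structureModule X' ⟶ (Scheme.Modules.pullback f).obj N) :
    ∃ σ : Coh.structureModule X ⟶ N, AmpleLib.pullS f σ = σ' := by
  let af := Scheme.Modules.pullbackPushforwardAdjunction f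
  let η := af.unit.app N
  let t := af.homEquiv _ _ ((AmpleLib.pullO f).hom ≫ σ')
  suffices H : ∃ σ : Coh.structureModule X ⟶ N, σ ≫ η = t by
    obtain ⟨σ, hσ⟩ := H
    refine ⟨σ, ?_⟩
    have h1 : (Scheme.Modules.pullback f).map σ = (AmpleLib.pullO f).hom ≫ σ' := by
      apply (af.homEquiv _ _).injective
      rw [af.homEquiv_unit, af.unit_naturality]
      exact hσ
    rw [AmpleLib.pullS, h1, Iso.inv_hom_id_assoc]
  suffices H : ∃ s : Γ(N, ⊤), η.app ⊤ s = t.app ⊤ (1 : Γ(X, ⊤)) by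
    obtain ⟨s, hs⟩ := H
    refine ⟨DCohLib.secHom N s, DCohLib.hom_unit_ext ?_⟩
    refine Eq.trans ?_ hs
    exact congrArg (η.app ⊤) ((DCohLib.secHom_app_one N s ⊤).trans (ParaFLib.res_self _ s))
  let F := (Scheme.Modules.pushforward f).obj ((Scheme.Modules.pullback f).obj N)
  let s₀ : Γ(F, ⊤) := t.app ⊤ (1 : Γ(X, ⊤))
  haveI := PullbackMod.isQCoh_pullback f N
  haveI : Coh.IsQCoh F := QCohLib.isQCoh_pushforward ((Scheme.Modules.pullback f).obj N) f
  haveI : Epi η := (epi_iff_stalk _).2 fun x => by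
    obtain ⟨z, rfl⟩ := f.surjective x
    exact JetLib.surjective_unit_stalk f N z
  haveI := hW
  have hηW := isIso_restrict_unit_pullback f W N
  have hbij : ∀ P : X.Opens, P ≤ W → Function.Bijective (η.app P) := fun P hP => by
    obtain ⟨P', rfl⟩ : ∃ P' : (W : Scheme.{u}).Opens, W.ι ''ᵁ P' = P :=
      ⟨W.ι ⁻¹ᵁ P, by rw [Scheme.Hom.image_preimage_eq_opensRange_inf, Scheme.Opens.opensRange_ι, inf_eq_right.2 hP]⟩
    haveI : IsIso (η.app (W.ι ''ᵁ P')) := Scheme.Modules.Hom.isIso_iff_isIso_app.1 hηW P'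
    exact ConcreteCategory.bijective_of_isIso _
  let U : Option (Fin n) → X.Opens := fun o => o.elim W O
  have hU : ∀ o, ∃ s : Γ(N, U o), η.app (U o) s = F.presheaf.map (homOfLE (le_top : U o ≤ ⊤)).op s₀ := by
    rintro (_ | j)
    · exact (hbij _ le_rfl).2 _
    · exact NilPushLib.surjective_app_of_epi ‹Coh.IsQCoh N› ‹Coh.IsQCoh F› η (hO j) _
  choose s hs using hU
  have hinf : ∀ o o', o ≠ o' → U o ⊓ U o' ≤ W := by
    rintro (_ | i) (_ | j) h
    · exact absurd rfl h
    · exact inf_le_left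
    · exact inf_le_right
    · exact hd i j fun e => h (congrArg some e)
  have hcov : (⊤ : X.Opens) ≤ iSup U := fun x _ => by
    rcases hc x with hx | ⟨j, hx⟩
    · exact Opens.mem_iSup.2 ⟨none, hx⟩
    · exact Opens.mem_iSup.2 ⟨some j, hx⟩
  let Ns : TopCat.Sheaf Ab.{u} X.carrier := ⟨N.presheaf, N.isSheaf⟩
  have hcompat : TopCat.Presheaf.IsCompatible N.presheaf U s := by
    intro o o'
    rcases eq_or_ne o o' with rfl | h
    · rfl
    · refine (hbij _ (hinf o o' h)).1 ?_
      show η.app _ (N.presheaf.map (homOfLE inf_le_left).op (s o)) = η.app _ (N.presheaf.map (homOfLE inf_le_right).op (s o'))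
      refine (DCohLib.app_natural η inf_le_left (s o)).trans (Eq.trans ?_ (DCohLib.app_natural η inf_le_right (s o')).symm)
      rw [hs, hs]
      exact (ParaFLib.res_res _ _ _).trans (ParaFLib.res_res _ _ _).symm
  obtain ⟨g, hg, -⟩ := Ns.existsUnique_gluing' U ⊤ (fun o => homOfLE le_top) hcov s hcompat
  refine ⟨g, TopCat.Sheaf.eq_of_locally_eq' (⟨F.presheaf, F.isSheaf⟩ : TopCat.Sheaf Ab.{u} X.carrier) U ⊤
    (fun o => homOfLE le_top) hcov _ _ fun o => ?_⟩
  show F.presheaf.map (homOfLE le_top).op (η.app ⊤ g) = F.presheaf.map (homOfLE le_top).op s₀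
  exact (DCohLib.app_natural η le_top g).symm.trans
    ((congrArg (η.app (U o)) (show N.presheaf.map (homOfLE (le_top : U o ≤ ⊤)).op g = s o from hg o)).trans (hs o))

/-- An ample family upstairs descends to any invertible lifts. -/
theorem isAmpleFamily_lift [IsNoetherian X] [IsClosedImmersion f] [Surjective f] (W : X.Opens) (hW : IsIso (f ∣_ W))
    {n : ℕ} (O : Fin n → X.Opens) (hO : ∀ j, IsAffineOpen (O j)) (hd : ∀ i j, i ≠ j → O i ⊓ O j ≤ W)
    (hc : ∀ x : X, x ∈ W ∨ ∃ j, x ∈ O j) {ι : Type u} {L' : ι → X'.Modules} (hL' : KSix.IsAmpleFamily L')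
    (L : ι → X.Modules) (hL : ∀ i, PicF.IsInvertible (L i))
    (e : ∀ i, (Scheme.Modules.pullback f).obj (L i) ≅ L' i) : KSix.IsAmpleFamily L := by
  refine ⟨inferInstance, inferInstance, hL, fun x => ?_⟩
  obtain ⟨z, rfl⟩ := f.surjective x
  obtain ⟨i, m, s', hz, haff⟩ := hL'.2.2.2 z
  let θ : (Scheme.Modules.pullback f).obj (CohB1.tensorPow (L i) (m + 1)) ≅ CohB1.tensorPow (L' i) (m + 1) :=
    AmpleLib.pullPow f (L i) (m + 1) ≪≫ AmpleLib.powCongr (e i) (m + 1)
  have hN := AmpleLib.isInvertible_tensorPow (hL i) (m + 1)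
  haveI := InvExt.isQCoh_of_isInvertible hN
  obtain ⟨s, hs⟩ := exists_section f W hW O hO hd hc (CohB1.tensorPow (L i) (m + 1)) (s' ≫ θ.inv)
  have hgen : CohB1.genLocus (CohB1.tensorPow (L' i) (m + 1)) s' = f ⁻¹ᵁ CohB1.genLocus _ s := by
    rw [← AmpleLib.genLocus_pullS f hN, hs]
    exact (AmpleLib.genLocus_comp_iso s' θ.symm).symm
  rw [hgen] at hz haff
  refine ⟨i, m, s, hz, ?_⟩
  haveI : IsAffine (f ⁻¹ᵁ CohB1.genLocus _ s).toScheme := haff
  haveI : IsClosedImmersion (f ∣_ CohB1.genLocus _ s) := IsZariskiLocalAtTarget.restrict ‹_› _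
  haveI : Surjective (f ∣_ CohB1.genLocus _ s) := IsZariskiLocalAtTarget.restrict ‹_› _
  exact Thicken.isAffine (f ∣_ CohB1.genLocus _ s) (f ∣_ CohB1.genLocus _ s).surjective

end Groth.Agent.BirNilLib
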